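import Cfsg.Prelude.Def_Local
import Mathlib.GroupTheory.Sylow
import Mathlib.GroupTheory.SpecificGroups.KleinFour

/-!
# Groups whose abelian subgroups of equal order are related by automorphisms

`AutConj M`: any two abelian subgroups of `M` of equal order are carried into each other by an
automorphism of `M`.
-/

set_option autoImplicit false
set_option linter.unusedSectionVars false
set_option linter.style.haveILetI false

namespace CfsgLib.WalterCons88

universe u

/-- Abelian subgroups of equal order are related by automorphisms. -/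
def AutConj (M : Type*) [Group M] : Prop :=
  ∀ A B : Subgroup M, IsMulCommutative A → IsMulCommutative B → Nat.card A = Nat.card B →
    ∃ σ : MulAut M, B = A.map σ.toMonoidHom

theorem isMulCommutative_map {G H : Type*} [Group G] [Group H] (f : G →* H) (A : Subgroup G)
    (hA : IsMulCommutative A) : IsMulCommutative (A.map f) :=
  ⟨⟨fun ⟨_, a, ha, hfa⟩ ⟨_, b, hb, hfb⟩ => Subtype.ext (by
    have h := congrArg Subtype.val (hA.is_comm.comm ⟨a, ha⟩ ⟨b, hb⟩)
    simp only [Subgroup.coe_mul] at h ⊢
    rw [← hfa, ← hfb, ← map_mul, ← map_mul, h])⟩⟩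

/-- A normal subgroup inherits the property from conjugacy in the whole group. -/
theorem autConj_of_conj {G : Type*} [Group G]
    (hB : ∀ A B : Subgroup G, IsMulCommutative ↥A → IsMulCommutative ↥B →
      Nat.card ↥A = Nat.card ↥B → ∃ g : G, B = A.map (MulAut.conj g).toMonoidHom)
    (M : Subgroup G) [M.Normal] : AutConj M := by
  intro A B hA hB' hc
  obtain ⟨g, hg⟩ := hB (A.map M.subtype) (B.map M.subtype) (isMulCommutative_map _ _ hA)
    (isMulCommutative_map _ _ hB')
    (by rwa [Subgroup.card_map_of_injective M.subtype_injective,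
      Subgroup.card_map_of_injective M.subtype_injective])
  refine ⟨MulAut.conjNormal g, ?_⟩
  apply Subgroup.map_injective M.subtype_injective
  rw [hg, Subgroup.map_map, Subgroup.map_map]
  congr 1

variable {M : Type u} [Group M] [Finite M]

theorem isMulCommutative_zpowers (x : M) : IsMulCommutative (Subgroup.zpowers x) :=
  ⟨⟨fun a b => Subtype.ext (by
    obtain ⟨i, hi⟩ := a.2
    obtain ⟨j, hj⟩ := b.2
    simp only [Subgroup.coe_mul, ← hi, ← hj]
    exact (Commute.zpow_zpow (Commute.refl x) i j).eq)⟩⟩

theorem AutConj.exists_zpowers (h : AutConj M) {x y : M} (hxy : orderOf x = orderOf y) :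
    ∃ σ : MulAut M, Subgroup.zpowers y = (Subgroup.zpowers x).map σ.toMonoidHom :=
  h _ _ (isMulCommutative_zpowers x) (isMulCommutative_zpowers y)
    (by rw [Nat.card_zpowers, Nat.card_zpowers, hxy])

/-- If some abelian subgroup of order `p * p` has exponent `p`, all elements of `p`-power order
have order at most `p`. -/
theorem AutConj.pow_eq_one (h : AutConj M) {p : ℕ} [hp : Fact p.Prime] {E : Subgroup M}
    (hEc : IsMulCommutative E) (hE : Nat.card E = p * p) (hEp : ∀ e ∈ E, e ^ p = 1)
    {g : M} (hg : ∃ j, orderOf g = p ^ j) : g ^ p = 1 := by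
  obtain ⟨j, hj⟩ := hg
  by_contra hne
  have hj2 : 2 ≤ j := by
    by_contra hlt
    refine hne (orderOf_dvd_iff_pow_eq_one.1 ?_)
    rw [hj]
    exact (pow_dvd_pow p (by omega : j ≤ 1)).trans (pow_one p).dvd
  set x := g ^ p ^ (j - 2) with hx
  have hox : orderOf x = p ^ 2 := by
    rw [hx, orderOf_pow_of_dvd (pow_ne_zero _ hp.out.ne_zero)
      (hj ▸ pow_dvd_pow p (by omega)), hj, Nat.pow_div (by omega) hp.out.pos]
    congr 1
    omega
  obtain ⟨σ, hσ⟩ := h E (Subgroup.zpowers x) hEc (isMulCommutative_zpowers x)
    (by rw [hE, Nat.card_zpowers, hox, sq])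
  obtain ⟨e, he, hex⟩ := Subgroup.mem_map.1 (hσ ▸ Subgroup.mem_zpowers x)
  have hxp : x ^ p = 1 := by rw [← hex, ← map_pow, hEp e he, map_one]
  have := Nat.le_of_dvd hp.out.pos (hox ▸ orderOf_dvd_of_pow_eq_one hxp)
  have := hp.out.two_le
  nlinarith

theorem card_centralizer_map (σ : MulAut M) (s : Set M) :
    Nat.card (Subgroup.centralizer (σ '' s)) = Nat.card (Subgroup.centralizer s) := by
  refine Nat.card_congr ((σ.toEquiv.subtypeEquiv (p := fun x => x ∈ Subgroup.centralizer s)
    (q := fun x => x ∈ Subgroup.centralizer (σ '' s)) fun x => ?_).symm)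
  simp only [Subgroup.mem_centralizer_iff, Set.forall_mem_image]
  refine forall₂_congr fun y _ => ?_
  show y * x = x * y ↔ σ y * σ x = σ x * σ y
  rw [← map_mul, ← map_mul, σ.injective.eq_iff]

/-- Elements of equal order have centralisers of equal order. -/
theorem AutConj.card_centralizer (h : AutConj M) {x y : M} (hxy : orderOf x = orderOf y) :
    Nat.card (Subgroup.centralizer ({x} : Set M)) = Nat.card (Subgroup.centralizer ({y} : Set M)) := by
  obtain ⟨σ, hσ⟩ := h.exists_zpowers hxy
  have key : ∀ z : M, Subgroup.centralizer ({z} : Set M) =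
      Subgroup.centralizer (Subgroup.zpowers z : Set M) := fun z => by
    rw [Subgroup.zpowers_eq_closure, Subgroup.centralizer_closure]
  rw [key, key, hσ, Subgroup.coe_map]
  exact (card_centralizer_map σ _).symm

end CfsgLib.WalterCons88
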