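import Cfsg.Agent.WalterCons88.Basic
import Cfsg.Agent.Linear.Basic
import Cfsg.Agent.S0813
import Cfsg.Agent.CAGroups.Simple

/-!
# The field degree of `PSL₂(2^a)` under `AutConj`
-/

set_option autoImplicit false
set_option linter.unusedSectionVars false
set_option linter.style.haveILetI false

namespace CfsgLib.WalterCons88

open scoped Pointwise

universe u

variable {M : Type u} [Group M] [Finite M]

/-- The four-groups of `M` inside `T`. -/
def fours (T : Subgroup M) : Set (Subgroup M) := {A | A ≤ T ∧ Nat.card A = 4}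

open Classical in
/-- An elementary abelian group of order `q` has `(q - 1)(q - 2)/6` four-groups. -/
theorem six_mul_card_fours (T : Subgroup M) (hsq : ∀ a ∈ T, a * a = 1) :
    6 * Nat.card (fours T) = (Nat.card T - 1) * (Nat.card T - 2) := by
  haveI := Fintype.ofFinite M
  haveI := Fintype.ofFinite (Subgroup M)
  have hcomm : ∀ a ∈ T, ∀ b ∈ T, a * b = b * a := fun a ha b hb => by
    calc a * b = a * (a * b * (a * b)) * b := by rw [hsq _ (mul_mem ha hb), mul_one]
      _ = a * a * (b * a) * (b * b) := by group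
      _ = b * a := by rw [hsq a ha, hsq b hb, one_mul, mul_one]
  let s : Finset M := Finset.univ.filter fun a => a ∈ T ∧ a ≠ 1
  let P : Finset (M × M) := s.offDiag
  let F : M × M → Subgroup M := fun p => Subgroup.closure ({p.1, p.2} : Set M)
  have hs : s.card = Nat.card T - 1 := by
    have : s = (Finset.univ.filter fun a => a ∈ T).erase 1 := by
      ext a; simp [s, and_comm]
    rw [this, Finset.card_erase_of_mem (by simp [one_mem T]), Nat.card_eq_fintype_card]
    congr 1
    rw [Fintype.card_subtype]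
  have hcl : ∀ a ∈ T, ∀ b ∈ T, a ≠ 1 → b ≠ 1 → a ≠ b →
      ∀ x, x ∈ Subgroup.closure ({a, b} : Set M) ↔ x ∈ ({1, a, b, a * b} : Finset M) := by
    intro a ha b hb _ _ _ x
    constructor
    · intro hx
      induction hx using Subgroup.closure_induction with
      | mem y hy =>
        rcases hy with rfl | hy
        · simp
        · rw [Set.mem_singleton_iff] at hy; simp [hy]
      | one => simp
      | mul y z _ _ hy hz =>
        have haa := hsq a ha
        have hbb := hsq b hb
        have hba : b * a = a * b := hcomm b hb a ha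
        have h1 : a * (a * b) = b := by rw [← mul_assoc, haa, one_mul]
        have h2 : b * (a * b) = a := by rw [← hba, ← mul_assoc, hbb, one_mul]
        have h3 : a * b * a = b := by rw [mul_assoc, hba, h1]
        have h4 : a * b * b = a := by rw [mul_assoc, hbb, mul_one]
        have h5 : a * b * (a * b) = 1 := hsq _ (mul_mem ha hb)
        simp only [Finset.mem_insert, Finset.mem_singleton] at hy hz ⊢
        rcases hy with rfl | rfl | rfl | rfl <;> rcases hz with rfl | rfl | rfl | rfl <;>
          simp only [one_mul, mul_one, haa, hbb, hba, h1, h2, h3, h4, h5, true_or, or_true]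
      | inv y _ hy =>
        simp only [Finset.mem_insert, Finset.mem_singleton] at hy ⊢
        have key : ∀ z ∈ T, z⁻¹ = z := fun z hz => inv_eq_of_mul_eq_one_right (hsq z hz)
        rcases hy with rfl | rfl | rfl | rfl
        · simp
        · simp [key _ ha]
        · simp [key _ hb]
        · simp only [key _ (mul_mem ha hb), true_or, or_true]
    · intro hx
      simp only [Finset.mem_insert, Finset.mem_singleton] at hx
      have hA : a ∈ Subgroup.closure ({a, b} : Set M) := Subgroup.subset_closure (by simp)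
      have hB : b ∈ Subgroup.closure ({a, b} : Set M) := Subgroup.subset_closure (by simp)
      rcases hx with rfl | rfl | rfl | rfl
      · exact one_mem _
      · exact hA
      · exact hB
      · exact mul_mem hA hB
  have hF : ∀ a ∈ T, ∀ b ∈ T, a ≠ 1 → b ≠ 1 → a ≠ b → F (a, b) ∈ fours T := by
    intro a ha b hb ha1 hb1 hab
    refine ⟨(Subgroup.closure_le _).2 (by rintro x (rfl | rfl) <;> assumption), ?_⟩
    rw [Nat.card_congr (Equiv.subtypeEquivRight (hcl a ha b hb ha1 hb1 hab)),
      Nat.card_eq_fintype_card, Fintype.card_coe]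
    have h1 : a * b ≠ 1 := fun h => hab (by
      calc a = a * (b * b) := by rw [hsq b hb, mul_one]
        _ = b := by rw [← mul_assoc, h, one_mul])
    have h2 : a * b ≠ a := fun h => hb1 (mul_eq_left.1 h)
    have h3 : a * b ≠ b := fun h => ha1 (mul_eq_right.1 h)
    rw [Finset.card_insert_of_notMem, Finset.card_insert_of_notMem, Finset.card_insert_of_notMem,
      Finset.card_singleton] <;> simp [ha1.symm, hb1.symm, hab, h1.symm, h2.symm, h3.symm]
  have hfib : ∀ A ∈ Finset.univ.filter (fun A => A ∈ fours T), (P.filter fun p => F p = A).card = 6 := by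
    intro A hA
    obtain ⟨hAT, hA4⟩ : A ≤ T ∧ Nat.card A = 4 := (Finset.mem_filter.1 hA).2
    have heq : (P.filter fun p => F p = A) =
        ((Finset.univ.filter fun a => a ∈ A).erase 1).offDiag := by
      ext ⟨a, b⟩
      simp only [P, s, Finset.mem_filter, Finset.mem_offDiag, Finset.mem_univ, true_and,
        Finset.mem_erase, ne_eq]
      constructor
      · rintro ⟨⟨⟨ha, ha1⟩, ⟨hb, hb1⟩, hab⟩, rfl⟩
        exact ⟨⟨ha1, Subgroup.subset_closure (by simp)⟩, ⟨hb1, Subgroup.subset_closure (by simp)⟩, hab⟩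
      · rintro ⟨⟨ha1, ha⟩, ⟨hb1, hb⟩, hab⟩
        refine ⟨⟨⟨hAT ha, ha1⟩, ⟨hAT hb, hb1⟩, hab⟩, ?_⟩
        refine Subgroup.eq_of_le_of_card_ge
          ((Subgroup.closure_le _).2 (by rintro x (rfl | rfl) <;> assumption)) ?_
        rw [hA4, (hF a (hAT ha) b (hAT hb) ha1 hb1 hab).2]
    rw [heq, Finset.offDiag_card, Finset.card_erase_of_mem (by simp [one_mem A]),
      ← Fintype.card_subtype, ← Nat.card_eq_fintype_card,
      show Nat.card {a : M // a ∈ A} = 4 from hA4]
  have hmap : ∀ p ∈ P, F p ∈ Finset.univ.filter (fun A => A ∈ fours T) := by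
    rintro ⟨a, b⟩ hp
    simp only [P, s, Finset.mem_offDiag, Finset.mem_filter, Finset.mem_univ, true_and] at hp ⊢
    exact hF a hp.1.1 b hp.2.1.1 hp.1.2 hp.2.1.2 hp.2.2
  have hcount := Finset.card_eq_sum_card_fiberwise hmap
  rw [Finset.sum_congr rfl hfib, Finset.sum_const, smul_eq_mul] at hcount
  have hfc : (Finset.univ.filter fun A => A ∈ fours T).card = Nat.card (fours T) := by
    rw [← Fintype.card_subtype, ← Nat.card_eq_fintype_card]
  rw [← hfc, mul_comm 6, ← hcount]
  show s.offDiag.card = _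
  rw [Finset.offDiag_card, hs]
  obtain ⟨n, hn⟩ : ∃ n, Nat.card T = n + 1 := ⟨Nat.card T - 1, by
    have := Nat.card_pos (α := T); omega⟩
  rw [hn, Nat.add_sub_cancel, show n + 1 - 2 = n - 1 by omega, Nat.mul_sub, mul_one]

/-- Four-groups of `T` and automorphisms: the number of four-groups times the number of Sylow
2-subgroups divides `|Aut M|`. -/
theorem card_fours_mul_dvd (h : AutConj M) (T : Sylow 2 M)
    (hsq : ∀ a ∈ (T : Subgroup M), a * a = 1) (hne : (fours (T : Subgroup M)).Nonempty) :
    Nat.card (fours (T : Subgroup M)) * Nat.card (Sylow 2 M) ∣ Nat.card (MulAut M) := by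
  haveI : Fact (Nat.Prime 2) := ⟨Nat.prime_two⟩
  have hcomm : ∀ a ∈ (T : Subgroup M), ∀ b ∈ (T : Subgroup M), a * b = b * a := fun a ha b hb => by
    calc a * b = a * (a * b * (a * b)) * b := by rw [hsq _ (mul_mem ha hb), mul_one]
      _ = a * a * (b * a) * (b * b) := by group
      _ = b * a := by rw [hsq a ha, hsq b hb, one_mul, mul_one]
  have habel : ∀ A : Subgroup M, A ≤ (T : Subgroup M) → IsMulCommutative A := fun A hA =>
    ⟨⟨fun a b => Subtype.ext (hcomm a (hA a.2) b (hA b.2))⟩⟩
  set St := MulAction.stabilizer (MulAut M) (T : Subgroup M) with hSt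
  -- the Sylow subgroups form one orbit
  have horbT : MulAction.orbit (MulAut M) (T : Subgroup M) =
      Set.range (fun P : Sylow 2 M => (P : Subgroup M)) := by
    ext X
    constructor
    · rintro ⟨σ, rfl⟩
      exact ⟨σ • T, rfl⟩
    · rintro ⟨P, rfl⟩
      obtain ⟨g, rfl⟩ := MulAction.exists_smul_eq M T P
      exact ⟨MulAut.conj g, rfl⟩
  have hindex : St.index = Nat.card (Sylow 2 M) := by
    rw [hSt, MulAction.index_stabilizer, horbT, Set.ncard_range_of_injective]
    exact fun P Q hPQ => Sylow.ext hPQ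
  -- the four-groups form one orbit of the stabiliser
  obtain ⟨A, hA⟩ := hne
  have horbA : MulAction.orbit St A = fours (T : Subgroup M) := by
    ext B
    constructor
    · rintro ⟨⟨σ, hσ⟩, rfl⟩
      refine ⟨?_, ?_⟩
      · show σ • A ≤ (T : Subgroup M)
        rw [← MulAction.mem_stabilizer_iff.1 hσ]
        exact Subgroup.pointwise_smul_le_pointwise_smul_iff.2 hA.1
      · show Nat.card (σ • A : Subgroup M) = 4
        rw [Nat.card_congr (Subgroup.equivSMul σ A).toEquiv.symm, hA.2]
    · rintro ⟨hBT, hB4⟩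
      obtain ⟨σ, hσ⟩ := h A B (habel A hA.1) (habel B hBT) (hA.2.trans hB4.symm)
      have hσ' : σ • A = B := hσ.symm
      set C := Subgroup.centralizer (B : Set M) with hC
      have hT : (T : Subgroup M) ≤ C := fun t ht => Subgroup.mem_centralizer_iff.2 fun b hb =>
        hcomm b (hBT hb) t ht
      have hσT : ((σ • T : Sylow 2 M) : Subgroup M) ≤ C := by
        intro x hx
        obtain ⟨t, ht, rfl⟩ := hx
        refine Subgroup.mem_centralizer_iff.2 fun b hb => ?_
        rw [← hσ'] at hb
        obtain ⟨a, ha, rfl⟩ := hb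
        show σ a * σ t = σ t * σ a
        rw [← map_mul, ← map_mul, hcomm a (hA.1 ha) t ht]
      obtain ⟨c, hc⟩ := MulAction.exists_smul_eq C ((σ • T).subtype hσT) (T.subtype hT)
      have hc' : (c : M) • (σ • T) = T := by
        rw [Sylow.smul_subtype] at hc
        exact Sylow.subtype_injective hc
      refine ⟨⟨MulAut.conj (c : M) * σ, ?_⟩, ?_⟩
      · rw [hSt, MulAction.mem_stabilizer_iff, mul_smul]
        exact congrArg (fun P : Sylow 2 M => (P : Subgroup M)) hc'
      · show (MulAut.conj (c : M) * σ) • A = B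
        rw [mul_smul, hσ']
        ext x
        constructor
        · rintro ⟨b, hb, rfl⟩
          show (c : M) * b * (c : M)⁻¹ ∈ B
          rw [← Subgroup.mem_centralizer_iff.1 c.2 b hb, mul_inv_cancel_right]
          exact hb
        · intro hb
          refine ⟨x, hb, ?_⟩
          show (c : M) * x * (c : M)⁻¹ = x
          rw [← Subgroup.mem_centralizer_iff.1 c.2 x hb, mul_inv_cancel_right]
  have h1 : Nat.card (fours (T : Subgroup M)) ∣ Nat.card St := by
    rw [← horbA, Nat.card_coe_set_eq, ← MulAction.index_stabilizer]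
    exact Subgroup.index_dvd_card _
  calc Nat.card (fours (T : Subgroup M)) * Nat.card (Sylow 2 M) ∣ Nat.card St * St.index := by
        rw [hindex]; exact mul_dvd_mul_right h1 _
    _ = Nat.card (MulAut M) := St.card_mul_index

/-- Under `AutConj`, `PSL₂(2^a)` has `a ∈ {2, 3, 5}`. -/
theorem even_degree_le [IsSimpleGroup M] (h : AutConj M)
    (hsq : ∀ g : M, (∃ j, orderOf g = 2 ^ j) → g * g = 1) {F : Type} [Field F] [Fintype F] {a : ℕ}
    (ha : 2 ≤ a) (hF : Fintype.card F = 2 ^ a)
    (e : M ≃* Matrix.ProjectiveSpecialLinearGroup (Fin 2) F) : a = 2 ∨ a = 3 ∨ a = 5 := by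
  haveI : Fact (Nat.Prime 2) := ⟨Nat.prime_two⟩
  have h4 : 4 ≤ 2 ^ a := le_trans (by norm_num) (Nat.pow_le_pow_right two_pos ha)
  have hcard : Nat.card M = 2 ^ a * ((2 ^ a) ^ 2 - 1) := by
    rw [Nat.card_congr e.toEquiv, Linear.card_PSL_two_even (by rw [hF]; exact (Nat.even_pow.2 ⟨even_two, by omega⟩)), hF]
  obtain ⟨T⟩ : Nonempty (Sylow 2 M) := inferInstance
  have hT : Nat.card (T : Subgroup M) = 2 ^ a := by
    rw [T.card_eq_multiplicity, hcard,
      Nat.factorization_mul (by positivity) (by nlinarith [Nat.sub_pos_of_lt (show 1 < (2 ^ a) ^ 2 by nlinarith)])]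
    have hodd : ((2 ^ a) ^ 2 - 1).factorization 2 = 0 := by
      apply Nat.factorization_eq_zero_of_not_dvd
      have h2 : 2 ∣ (2 ^ a) ^ 2 := dvd_pow (dvd_pow_self 2 (by omega)) two_ne_zero
      have : 1 ≤ (2 ^ a) ^ 2 := Nat.one_le_pow _ _ (by omega)
      omega
    simp [hodd, Nat.prime_two.factorization_pow]
  have hsqT : ∀ x ∈ (T : Subgroup M), x * x = 1 := fun x hx => hsq x (by
    obtain ⟨j, hj⟩ := IsPGroup.iff_orderOf.1 T.2 ⟨x, hx⟩
    exact ⟨j, by rwa [Subgroup.orderOf_mk] at hj⟩)
  have hne : (fours (T : Subgroup M)).Nonempty := by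
    obtain ⟨A, hA⟩ := Sylow.exists_subgroup_card_pow_prime 2 (n := 2)
      (show 2 ^ 2 ∣ Nat.card (T : Subgroup M) by rw [hT]; exact pow_dvd_pow 2 ha)
    exact ⟨A.map (T : Subgroup M).subtype, Subgroup.map_subtype_le _,
      by rw [Subgroup.card_map_of_injective (T : Subgroup M).subtype_injective, hA]; norm_num⟩
  have hsix := six_mul_card_fours (T : Subgroup M) hsqT
  rw [hT] at hsix
  have hdvd := card_fours_mul_dvd h T hsqT hne
  have hAut : Nat.card (MulAut M) = a * (2 ^ a * ((2 ^ a) ^ 2 - 1)) := by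
    rw [Nat.card_congr (MulAut.congr e).toEquiv,
      Cfsg.Agent.S0813.result 2 a (by omega) hF 2 le_rfl (fun _ => h4), if_pos rfl, one_mul,
      Linear.card_PGL, Linear.card_SL_two, hF]
  rw [hAut] at hdvd
  by_contra hcon
  -- the part prime to two
  have hsub : ((2 ^ a) ^ 2 - 1) = (2 ^ a - 1) * (2 ^ a + 1) := by
    rw [mul_comm, ← Nat.sq_sub_sq, one_pow]
  have hle : a ≤ 8 := by
    by_contra hlt
    have h1 : 6 * Nat.card (fours (T : Subgroup M)) ∣ 6 * (a * (2 ^ a * ((2 ^ a) ^ 2 - 1))) :=
      mul_dvd_mul_left 6 (dvd_trans (dvd_mul_right _ _) hdvd)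
    rw [hsix, hsub] at h1
    have h2 : (2 ^ a - 2) ∣ 6 * a * 2 ^ a * (2 ^ a + 1) := by
      refine Nat.dvd_of_mul_dvd_mul_left (show 0 < 2 ^ a - 1 by omega) (h1.trans (dvd_of_eq ?_))
      ring
    obtain ⟨b, hb⟩ : ∃ b, 2 ^ a = 2 * b := dvd_pow_self 2 (by omega)
    have hb1 : 2 ^ a - 2 = 2 * (b - 1) := by omega
    rw [hb1] at h2
    have hcop : (b - 1).Coprime b := by
      have : b = (b - 1) + 1 := by omega
      conv_rhs => rw [this]
      simp
    have h3 : (b - 1) ∣ b * (6 * a * (2 * b + 1)) := by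
      rw [show 6 * a * 2 ^ a * (2 ^ a + 1) = 2 * (b * (6 * a * (2 * b + 1))) by rw [hb]; ring] at h2
      exact Nat.dvd_of_mul_dvd_mul_left two_pos h2
    have h4' : (b - 1) ∣ 18 * a := by
      have h5 := hcop.dvd_of_dvd_mul_left h3
      rw [show 6 * a * (2 * b + 1) = (b - 1) * (12 * a) + 18 * a by
        obtain ⟨c, rfl⟩ : ∃ c, b = c + 1 := ⟨b - 1, by omega⟩
        rw [Nat.add_sub_cancel]; ring] at h5
      exact (Nat.dvd_add_right (dvd_mul_right _ _)).1 h5
    have h6 := Nat.le_of_dvd (by omega) h4'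
    have h7 : ∀ n : ℕ, 36 * (n + 9) + 2 < 2 ^ (n + 9) := by
      intro n
      induction n with
      | zero => norm_num
      | succ n ih => rw [show n + 1 + 9 = n + 9 + 1 by ring, pow_succ]; omega
    have h8 := h7 (a - 9)
    rw [Nat.sub_add_cancel (by omega : 9 ≤ a)] at h8
    omega
  have hX : ∀ x : ℕ, 6 * x = (2 ^ a - 1) * (2 ^ a - 2) → x ∣ a * (2 ^ a * ((2 ^ a) ^ 2 - 1)) →
      a = 7 := by
    intro x hx hxd
    interval_cases a
    · simp at hcon
    · simp at hcon
    · norm_num at hx
      obtain rfl : x = 35 := by omega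
      norm_num at hxd
    · simp at hcon
    · norm_num at hx
      obtain rfl : x = 651 := by omega
      norm_num at hxd
    · rfl
    · norm_num at hx
      obtain rfl : x = 10795 := by omega
      norm_num at hxd
  have h7 := hX _ hsix (dvd_trans (dvd_mul_right _ _) hdvd)
  subst h7
  norm_num at hsix hdvd hcard
  try rw [← Nat.card_coe_set_eq] at hdvd hsix
  rw [show Nat.card (fours (T : Subgroup M)) = 2667 by omega] at hdvd
  have hn43 : Nat.card (Sylow 2 M) ∣ 43 := by
    have hodd : (Nat.card (Sylow 2 M)).Coprime (2 ^ 7) := by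
      refine Nat.Coprime.pow_right _ ((Nat.prime_two.coprime_iff_not_dvd.2 ?_).symm)
      exact not_dvd_card_sylow 2 M
    have h1 : Nat.card (Sylow 2 M) ∣ 2 ^ 7 * 43 := by
      have h2 : 2667 * Nat.card (Sylow 2 M) ∣ 2667 * (2 ^ 7 * 43) :=
        hdvd.trans (by norm_num)
      exact Nat.dvd_of_mul_dvd_mul_left (by norm_num) h2
    exact hodd.dvd_of_dvd_mul_left h1
  have hle43 := Nat.le_of_dvd (by norm_num) hn43
  -- the action on the Sylow subgroups is faithful
  have hinj : Function.Injective (MulAction.toPermHom M (Sylow 2 M)) := by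
    rw [← MonoidHom.ker_eq_bot_iff]
    rcases (MonoidHom.normal_ker (MulAction.toPermHom M (Sylow 2 M))).eq_bot_or_eq_top with hk | hk
    · exact hk
    · exfalso
      have hnorm : (T : Subgroup M).Normal := by
        rw [← Subgroup.normalizer_eq_top_iff, eq_top_iff]
        intro g _
        have hg : g ∈ (MulAction.toPermHom M (Sylow 2 M)).ker := hk ▸ Subgroup.mem_top g
        have hfix : g • T = T := Equiv.Perm.ext_iff.1 (MonoidHom.mem_ker.1 hg) T
        exact Sylow.smul_eq_iff_mem_normalizer.1 hfix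
      rcases hnorm.eq_bot_or_eq_top with hb | hb
      · rw [hb, Subgroup.card_bot] at hT; norm_num at hT
      · rw [hb, Subgroup.card_top, hcard] at hT; norm_num at hT
  have hfac := Subgroup.card_dvd_of_injective _ hinj
  rw [Nat.card_perm, hcard] at hfac
  have h127 : 127 ∣ (Nat.card (Sylow 2 M)).factorial := dvd_trans (by norm_num) hfac
  have := (Nat.Prime.dvd_factorial (by norm_num : Nat.Prime 127)).1 h127
  omega

end CfsgLib.WalterCons88
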