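import Cfsg.Agent.WalterCons88.Basic
import Cfsg.Agent.Walter.Setting
import Cfsg.Agent.S0343
import Cfsg.Agent.FgsSix.Frobenius
import Cfsg.Agent.Linear.Basic
import Cfsg.Agent.PiHomogeneousTwo.Klein
import Cfsg.Agent.Blocks.GroupAlgebra

/-!
# A Janko–Ree group under `AutConj` has order 175560

If the order is `q³(q³+1)(q-1)`, the 3-elements have exponent three and every element of order three
is centralized by an involution and by a Sylow 3-subgroup; Frobenius' theorem then gives a
contradiction.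
-/

set_option autoImplicit false
set_option linter.unusedSectionVars false
set_option linter.style.haveILetI false

namespace CfsgLib.WalterCons88

universe u

variable {M : Type u} [Group M] [Finite M]

theorem ree_order_injective {a b : ℕ} (ha : 2 ≤ a) (hb : 2 ≤ b)
    (h : a ^ 3 * (a ^ 3 + 1) * (a - 1) = b ^ 3 * (b ^ 3 + 1) * (b - 1)) : a = b := by
  have key : ∀ x y : ℕ, 2 ≤ x → x < y →
      x ^ 3 * (x ^ 3 + 1) * (x - 1) < y ^ 3 * (y ^ 3 + 1) * (y - 1) := fun x y hx hxy => by
    have h3 : x ^ 3 < y ^ 3 := Nat.pow_lt_pow_left hxy (by norm_num)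
    exact Nat.mul_lt_mul_of_lt_of_le (Nat.mul_lt_mul_of_lt_of_lt h3 (by omega)) (by omega)
      (by omega)
  rcases lt_trichotomy a b with hab | hab | hab
  · exact absurd h (key a b ha hab).ne
  · exact hab
  · exact absurd h (key b a hb hab).ne'

theorem factorization_three {q : ℕ} {k : ℕ} (hq : q = 3 ^ k) (hk : 1 ≤ k) :
    (q * (q ^ 2 - 1)).factorization 3 = k := by
  subst hq
  have h3 : 3 ∣ (3 ^ k) ^ 2 := dvd_pow (dvd_pow_self 3 (by omega)) two_ne_zero
  have h1 : 9 ≤ (3 ^ k) ^ 2 := by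
    rw [← pow_mul]
    exact le_trans (by norm_num) (Nat.pow_le_pow_right (by norm_num) (by omega : 2 ≤ k * 2))
  rw [Nat.factorization_mul (by positivity) (by omega), Finsupp.add_apply,
    Nat.Prime.factorization_pow (by norm_num), Finsupp.single_eq_same,
    Nat.factorization_eq_zero_of_not_dvd (by omega), add_zero]

theorem arith_contradiction (q v w : ℕ) (hq : 27 ≤ q) (h5 : q ^ 3 ≤ 8 * q * q + v)
    (h6 : q ^ 3 ≤ 8 * q * w + 1) (h7 : v * w < q ^ 4) : False := by
  have h8 : 19 * q ^ 2 ≤ v := by nlinarith [Nat.mul_le_mul_right (q ^ 2) hq]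
  have h9 : 2 * q ^ 2 ≤ 17 * w := by
    by_contra hlt
    have h9' : 17 * w + 1 ≤ 2 * q ^ 2 := by omega
    have e1 : 8 * q * (17 * w + 1) ≤ 8 * q * (2 * q ^ 2) := Nat.mul_le_mul_left _ h9'
    have e2 : q * (q * q) = q ^ 3 := by ring
    have e3 : 27 * (27 * 27) ≤ q * (q * q) := Nat.mul_le_mul hq (Nat.mul_le_mul hq hq)
    have e4 : 8 * q * (17 * w + 1) = 17 * (8 * q * w) + 8 * q := by ring
    have e5 : 8 * q * (2 * q ^ 2) = 16 * q ^ 3 := by ring
    omega
  nlinarith [Nat.mul_le_mul h8 h9]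

theorem cofactor_lt (q : ℕ) (hq : 2 ≤ q := by omega) : (q ^ 3 + 1) * (q - 1) < q ^ 4 := by
  obtain ⟨d, rfl⟩ : ∃ d, q = d + 1 := ⟨q - 1, by omega⟩
  rw [Nat.add_sub_cancel]
  ring_nf
  nlinarith

/-- The order of an involution centralizer `Z₂ × PSL₂(q)`. -/
theorem card_centralizer_jr {t : M} {F : Type} [Field F] [Fintype F] (hodd : Odd (Fintype.card F))
    (e : Subgroup.centralizer ({t} : Set M) ≃*
      Multiplicative (ZMod 2) × Matrix.ProjectiveSpecialLinearGroup (Fin 2) F) :
    Nat.card (Subgroup.centralizer ({t} : Set M)) =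
      Fintype.card F * (Fintype.card F ^ 2 - 1) := by
  rw [Nat.card_congr e.toEquiv, Nat.card_prod,
    show Nat.card (Multiplicative (ZMod 2)) = 2 by rw [Nat.card_eq_fintype_card]; rfl,
    Linear.card_PSL_two_odd hodd]

/-- An elementary abelian subgroup of order 9 in `Z₂ × PSL₂(3^k)`, `k ≥ 2`. -/
theorem exists_nine {t : M} {F : Type} [Field F] [Fintype F] {k : ℕ} (hk : 2 ≤ k)
    (hq : Fintype.card F = 3 ^ k)
    (e : Subgroup.centralizer ({t} : Set M) ≃*
      Multiplicative (ZMod 2) × Matrix.ProjectiveSpecialLinearGroup (Fin 2) F) :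
    ∃ E : Subgroup M, IsMulCommutative E ∧ Nat.card E = 3 * 3 ∧ (∀ x ∈ E, x ^ 3 = 1) ∧
      ∀ x ∈ E, Commute x t := by
  haveI : Fact (Nat.Prime 3) := ⟨by norm_num⟩
  let ψ : Multiplicative F →* M :=
    (Subgroup.centralizer ({t} : Set M)).subtype.comp (e.symm.toMonoidHom.comp
      ((MonoidHom.inr (Multiplicative (ZMod 2)) (Matrix.ProjectiveSpecialLinearGroup (Fin 2) F)).comp
        ((QuotientGroup.mk' (Subgroup.center (Matrix.SpecialLinearGroup (Fin 2) F))).comp
          CfsgLib.PiHomTwo.unip)))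
  have hinj : Function.Injective ψ := by
    rw [injective_iff_map_eq_one]
    intro x hx
    have h1 : QuotientGroup.mk' (Subgroup.center (Matrix.SpecialLinearGroup (Fin 2) F))
        (CfsgLib.PiHomTwo.unip x) = 1 := by
      have := e.symm.injective (Subtype.ext (hx.trans (by rw [map_one]; rfl)) :
        e.symm (1, QuotientGroup.mk' _ (CfsgLib.PiHomTwo.unip x)) = e.symm 1)
      exact congrArg Prod.snd this
    rw [QuotientGroup.mk'_apply, QuotientGroup.eq_one_iff] at h1
    obtain ⟨r, -, hr⟩ := Matrix.SpecialLinearGroup.mem_center_iff.1 h1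
    have h2 := congrFun (congrFun hr 0) 1
    have h3 : Multiplicative.toAdd x = 0 := by
      obtain ⟨y, rfl⟩ : ∃ y, Multiplicative.ofAdd y = x := ⟨Multiplicative.toAdd x, rfl⟩
      rw [CfsgLib.PiHomTwo.coe_unip] at h2
      simp at h2
      simpa using h2.symm
    exact h3
  have h3F : (3 : F) = 0 := by
    have h := FiniteField.cast_card_eq_zero F
    rw [hq, Nat.cast_pow] at h
    exact_mod_cast eq_zero_of_pow_eq_zero h
  have hexp : ∀ x : Multiplicative F, x ^ 3 = 1 := fun x => by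
    refine (Multiplicative.toAdd (α := F)).injective ?_
    rw [toAdd_pow, toAdd_one, nsmul_eq_mul, Nat.cast_ofNat, h3F, zero_mul]
  have hR : Nat.card ψ.range = 3 ^ k := by
    rw [← Nat.card_congr (MonoidHom.ofInjective hinj).toEquiv, ← hq, ← Nat.card_eq_fintype_card]
    exact Nat.card_congr Multiplicative.toAdd
  obtain ⟨A, hA⟩ := Sylow.exists_subgroup_card_pow_prime 3 (n := 2)
    (show 3 ^ 2 ∣ Nat.card ψ.range by rw [hR]; exact pow_dvd_pow 3 hk)
  refine ⟨A.map ψ.range.subtype, ⟨⟨fun a b => Subtype.ext ?_⟩⟩, ?_, ?_, ?_⟩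
  · obtain ⟨y, hy⟩ : (a : M) ∈ ψ.range := Subgroup.map_subtype_le _ a.2
    obtain ⟨z, hz⟩ : (b : M) ∈ ψ.range := Subgroup.map_subtype_le _ b.2
    simp only [Subgroup.coe_mul, ← hy, ← hz, ← map_mul, mul_comm y z]
  · rw [Subgroup.card_map_of_injective ψ.range.subtype_injective, hA]; norm_num
  · intro x hx
    obtain ⟨y, rfl⟩ := Subgroup.map_subtype_le _ hx
    rw [← map_pow, hexp, map_one]
  · intro x hx
    obtain ⟨y, rfl⟩ := Subgroup.map_subtype_le _ hx
    exact Subgroup.mem_centralizer_singleton_iff.1 (SetLike.coe_mem _)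

open Classical in
/-- A Janko–Ree group under `AutConj` has order 175560. -/
theorem isJ1_of_isJR [IsSimpleGroup M] (h : AutConj M) (S : Sylow 2 M)
    (hS8 : Nat.card (S : Subgroup M) = 8) (hab : ∀ P : Sylow 2 M, ∀ a b : P, a * b = b * a)
    (hJR : CfsgLib.Walter.IsJR M) : Cfsg.IsJ1 M := by
  haveI : Fact (Nat.Prime 2) := ⟨Nat.prime_two⟩
  haveI : Fact (Nat.Prime 3) := ⟨by norm_num⟩
  haveI := Fintype.ofFinite M
  haveI := Fintype.ofFinite (ConjClasses M)
  by_contra hJ
  -- the data of one involution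
  have hdata : ∀ t : M, orderOf t = 2 → ∃ (F : Type) (_ : Field F) (_ : Fintype F) (m : ℕ),
      1 ≤ m ∧ Fintype.card F = 3 ^ (2 * m + 1) ∧
      Nat.card M = (3 ^ (2 * m + 1)) ^ 3 * ((3 ^ (2 * m + 1)) ^ 3 + 1) * (3 ^ (2 * m + 1) - 1) ∧
      Nonempty (Subgroup.centralizer ({t} : Set M) ≃*
        Multiplicative (ZMod 2) × Matrix.ProjectiveSpecialLinearGroup (Fin 2) F) := by
    intro t ht
    obtain ⟨F, iF, fF, -, h5, he⟩ := hJR.2 t ht
    rcases Cfsg.Agent.S0343.result hab (by omega) t ht he with ⟨m, hm, hq, hc⟩ | ⟨-, hj⟩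
    · exact ⟨F, iF, fF, m, hm, hq, hc, he⟩
    · exact absurd hj hJ
  obtain ⟨t, ht⟩ := exists_prime_orderOf_dvd_card' (G := (S : Subgroup M)) 2 (by rw [hS8]; norm_num)
  rw [← Subgroup.orderOf_coe] at ht
  obtain ⟨F, iF, fF, m, hm, hFq, hM, ⟨e⟩⟩ := hdata (t : M) ht
  set q := 3 ^ (2 * m + 1) with hq
  have hq27 : 27 ≤ q :=
    le_trans (by norm_num) (Nat.pow_le_pow_right (show 1 ≤ 3 by norm_num) (by omega : 3 ≤ 2 * m + 1))
  obtain ⟨E, hEc, hE9, hE3, hEt⟩ := exists_nine (by omega) hFq e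
  have hexp : ∀ x : M, (∃ j, orderOf x = 3 ^ j) → x ^ 3 = 1 := fun x hx =>
    h.pow_eq_one hEc hE9 hE3 hx
  -- the elements of order three
  set Ω := Finset.univ.filter fun x : M => orderOf x = 3 with hΩ
  obtain ⟨z₀, hz₀E, hz₀⟩ : ∃ z ∈ E, orderOf z = 3 := by
    haveI : Nontrivial E := Finite.one_lt_card_iff_nontrivial.1 (by rw [hE9]; norm_num)
    obtain ⟨z, hz⟩ := exists_ne (1 : E)
    exact ⟨z, z.2, orderOf_eq_prime (hE3 z z.2) fun e => hz (Subtype.ext e)⟩
  have hinv : ∀ x ∈ Ω, ∃ t' : M, orderOf t' = 2 ∧ Commute x t' := by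
    intro x hx
    obtain ⟨σ, hσ⟩ := h.exists_zpowers (x := z₀) (y := x)
      (hz₀.trans (Finset.mem_filter.1 hx).2.symm)
    refine ⟨σ t, by rw [MulEquiv.orderOf_eq, ht], ?_⟩
    obtain ⟨y, hy, hyx⟩ := Subgroup.mem_map.1 (hσ ▸ Subgroup.mem_zpowers x)
    obtain ⟨i, rfl⟩ := hy
    rw [← hyx]
    exact ((hEt z₀ hz₀E).zpow_left i).map σ
  -- few classes
  let D : M → Finset (ConjClasses M) := fun s =>
    if orderOf s = 2 then
      (Finset.univ.filter fun y : M =>
        y ∈ ((default : Sylow 3 (Subgroup.centralizer ({s} : Set M))) :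
          Subgroup (Subgroup.centralizer ({s} : Set M))).map
            (Subgroup.centralizer ({s} : Set M)).subtype).image ConjClasses.mk
    else ∅
  have hDcard : ∀ s, (D s).card ≤ q := by
    intro s
    by_cases hs : orderOf s = 2
    swap
    · simp [D, hs]
    simp only [D, if_pos hs]
    refine Finset.card_image_le.trans ?_
    rw [← Fintype.card_subtype, ← Nat.card_eq_fintype_card]
    obtain ⟨F', iF', fF', m', hm', hFq', hM', ⟨e'⟩⟩ := hdata s hs
    have hqq : 3 ^ (2 * m' + 1) = q := ree_order_injective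
      (le_trans (by norm_num) (Nat.pow_le_pow_right (by norm_num) (by omega : 1 ≤ 2 * m' + 1)))
      (by omega) (hM'.symm.trans hM)
    have hodd : Odd (Fintype.card F') := by rw [hFq']; exact (by decide : Odd 3).pow
    refine le_of_eq ?_
    show Nat.card (((default : Sylow 3 (Subgroup.centralizer ({s} : Set M))) :
      Subgroup (Subgroup.centralizer ({s} : Set M))).map
        (Subgroup.centralizer ({s} : Set M)).subtype : Subgroup M) = q
    rw [Subgroup.card_map_of_injective (Subgroup.centralizer ({s} : Set M)).subtype_injective,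
      Sylow.card_eq_multiplicity, card_centralizer_jr hodd e',
      factorization_three hFq' (by omega), hqq]
  have hsub : Ω.image ConjClasses.mk ⊆ (Finset.univ.filter fun s => s ∈ (S : Subgroup M)).biUnion D := by
    intro C hC
    obtain ⟨x, hx, rfl⟩ := Finset.mem_image.1 hC
    obtain ⟨t', ht', hxt⟩ := hinv x hx
    have hp : IsPGroup 2 (Subgroup.zpowers t') :=
      IsPGroup.of_card (n := 1) (by rw [Nat.card_zpowers, ht', pow_one])
    obtain ⟨T, hT⟩ := hp.exists_le_sylow
    obtain ⟨g, rfl⟩ := MulAction.exists_smul_eq M S T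
    have hmem : g⁻¹ * t' * g ∈ (S : Subgroup M) := by
      have := hT (Subgroup.mem_zpowers t')
      rwa [Sylow.coe_subgroup_smul, Subgroup.mem_pointwise_smul_iff_inv_smul_mem,
        ← map_inv, MulAut.smul_def, MulAut.conj_apply, inv_inv] at this
    set s := g⁻¹ * t' * g with hs
    have hso : orderOf s = 2 := by
      rw [hs, show g⁻¹ * t' * g = MulAut.conj g⁻¹ t' by simp, MulEquiv.orderOf_eq, ht']
    have hxs : g⁻¹ * x * g ∈ Subgroup.centralizer ({s} : Set M) := by
      rw [Subgroup.mem_centralizer_singleton_iff, hs]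
      calc g⁻¹ * x * g * (g⁻¹ * t' * g) = g⁻¹ * (x * t') * g := by group
        _ = g⁻¹ * t' * g * (g⁻¹ * x * g) := by rw [hxt.eq]; group
    set y : Subgroup.centralizer ({s} : Set M) := ⟨_, hxs⟩
    have hy : IsPGroup 3 (Subgroup.zpowers y) := IsPGroup.of_card (n := 1) (by
      rw [Nat.card_zpowers, ← Subgroup.orderOf_coe, pow_one]
      show orderOf (g⁻¹ * x * g) = 3
      rw [show g⁻¹ * x * g = MulAut.conj g⁻¹ x by simp, MulEquiv.orderOf_eq]
      exact (Finset.mem_filter.1 hx).2)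
    obtain ⟨Q, hQ⟩ := hy.exists_le_sylow
    obtain ⟨c, rfl⟩ := MulAction.exists_smul_eq (Subgroup.centralizer ({s} : Set M))
      (default : Sylow 3 (Subgroup.centralizer ({s} : Set M))) Q
    have hm2 := hQ (Subgroup.mem_zpowers y)
    rw [Sylow.coe_subgroup_smul, Subgroup.mem_pointwise_smul_iff_inv_smul_mem,
      ← map_inv, MulAut.smul_def, MulAut.conj_apply, inv_inv] at hm2
    refine Finset.mem_biUnion.2 ⟨s, Finset.mem_filter.2 ⟨Finset.mem_univ _, hmem⟩, ?_⟩
    simp only [D, if_pos hso]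
    refine Finset.mem_image.2 ⟨((c⁻¹ * y * c : Subgroup.centralizer ({s} : Set M)) : M),
      Finset.mem_filter.2 ⟨Finset.mem_univ _, Subgroup.mem_map.2 ⟨_, hm2, rfl⟩⟩, ?_⟩
    refine ConjClasses.mk_eq_mk_iff_isConj.2 (isConj_iff.2 ⟨g * (c : M), ?_⟩)
    show g * (c : M) * ((c : M)⁻¹ * (g⁻¹ * x * g) * (c : M)) * (g * (c : M))⁻¹ = x
    group
  set c := (Ω.image ConjClasses.mk).card with hc
  have hcle : c ≤ 8 * q := by
    refine (Finset.card_le_card hsub).trans ((Finset.card_biUnion_le).trans ?_)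
    refine (Finset.sum_le_card_nsmul _ _ q fun s _ => hDcard s).trans ?_
    rw [smul_eq_mul, ← Fintype.card_subtype, ← Nat.card_eq_fintype_card,
      show Nat.card {s : M // s ∈ (S : Subgroup M)} = 8 from hS8]
  -- all classes have the same size
  set K := Nat.card (Subgroup.centralizer ({z₀} : Set M)) with hK
  set w := (Subgroup.centralizer ({z₀} : Set M)).index with hw
  have hclass : ∀ C ∈ Ω.image ConjClasses.mk,
      (Ω.filter fun x => ConjClasses.mk x = C).card = w := by
    intro C hC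
    obtain ⟨x, hx, rfl⟩ := Finset.mem_image.1 hC
    have hxo := (Finset.mem_filter.1 hx).2
    have hset : (Ω.filter fun y => ConjClasses.mk y = ConjClasses.mk x) =
        Finset.univ.filter fun y => ConjClasses.mk y = ConjClasses.mk x := by
      ext y
      simp only [hΩ, Finset.mem_filter, Finset.mem_univ, true_and, and_iff_right_iff_imp]
      intro hy
      obtain ⟨c', hc'⟩ := isConj_iff.1 (ConjClasses.mk_eq_mk_iff_isConj.1 hy)
      rw [← hxo, ← hc', show c' * y * c'⁻¹ = MulAut.conj c' y from rfl, MulEquiv.orderOf_eq]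
    rw [hset, ← Fintype.card_subtype, ← Nat.card_eq_fintype_card, CfsgLib.Blocks.natCard_class]
    have h1 := (Subgroup.centralizer ({x} : Set M)).card_mul_index
    have h2 := (Subgroup.centralizer ({z₀} : Set M)).card_mul_index
    rw [h.card_centralizer (hxo.trans hz₀.symm), ← hK] at h1
    rw [← hK, ← hw] at h2
    exact Nat.eq_of_mul_eq_mul_left Nat.card_pos (h1.trans h2.symm)
  have hN : Ω.card = c * w := by
    rw [Finset.card_eq_sum_card_image ConjClasses.mk Ω, Finset.sum_congr rfl hclass,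
      Finset.sum_const, smul_eq_mul]
  -- Frobenius
  have hq3 : q ^ 3 ∣ Nat.card M := by rw [hM]; exact dvd_mul_of_dvd_left (dvd_mul_right _ _) _
  have hfrob : q ^ 3 ∣ c * w + 1 := by
    have h1 := CfsgLib.FgsSix.dvd_card_pow_eq_one (q ^ 3) hq3
    have hset : (Finset.univ.filter fun x : M => x ^ (q ^ 3) = 1) = insert 1 Ω := by
      ext x
      simp only [hΩ, Finset.mem_filter, Finset.mem_univ, true_and, Finset.mem_insert]
      constructor
      · intro hx
        have hx' : ∃ j, orderOf x = 3 ^ j := by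
          obtain ⟨j, -, hj⟩ := (Nat.dvd_prime_pow (by norm_num : Nat.Prime 3)).1
            (show orderOf x ∣ 3 ^ ((2 * m + 1) * 3) by
              rw [pow_mul]; exact orderOf_dvd_of_pow_eq_one hx)
          exact ⟨j, hj⟩
        rcases (Nat.dvd_prime (by norm_num : Nat.Prime 3)).1
          (orderOf_dvd_of_pow_eq_one (hexp x hx')) with h' | h'
        · exact Or.inl (orderOf_eq_one_iff.1 h')
        · exact Or.inr h'
      · rintro (rfl | hx)
        · rw [one_pow]
        · refine orderOf_dvd_iff_pow_eq_one.1 ?_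
          rw [hx, hq, ← pow_mul]
          exact dvd_pow_self 3 (by omega)
    rw [Nat.card_eq_fintype_card, Fintype.card_subtype, hset,
      Finset.card_insert_of_notMem (by simp [hΩ]), hN] at h1
    exact h1
  -- a centraliser containing a Sylow 3-subgroup
  have hqK : q ^ 3 ∣ K := by
    obtain ⟨P⟩ : Nonempty (Sylow 3 M) := inferInstance
    have hqP : q ^ 3 ∣ Nat.card (P : Subgroup M) := by
      have hp : q ^ 3 = 3 ^ ((2 * m + 1) * 3) := by rw [hq, ← pow_mul]
      rw [hp] at hq3 ⊢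
      exact P.pow_dvd_card_of_pow_dvd_card hq3
    haveI : Nontrivial (P : Subgroup M) := by
      refine Finite.one_lt_card_iff_nontrivial.1 (lt_of_lt_of_le ?_ (Nat.le_of_dvd Nat.card_pos hqP))
      exact Nat.one_lt_pow (by norm_num) (by omega)
    obtain ⟨z, hz, hz1⟩ := (Subgroup.center (P : Subgroup M)).bot_or_exists_ne_one.resolve_left
      (fun hb => absurd (hb ▸ P.2.center_nontrivial) (by simp [not_nontrivial_iff_subsingleton]; infer_instance))
    have hzo : orderOf (z : M) = 3 := by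
      obtain ⟨j, hj⟩ := IsPGroup.iff_orderOf.1 P.2 z
      rw [← Subgroup.orderOf_coe] at hj
      exact orderOf_eq_prime (hexp _ ⟨j, hj⟩) fun e => hz1 (Subtype.ext e)
    refine hqP.trans ?_
    rw [hK, ← h.card_centralizer (hzo.trans hz₀.symm)]
    refine Subgroup.card_dvd_of_le fun p hp => Subgroup.mem_centralizer_singleton_iff.2 ?_
    exact congrArg Subtype.val (Subgroup.mem_center_iff.1 hz ⟨p, hp⟩)
  obtain ⟨v, hv⟩ := hqK
  have hr : v * w = (q ^ 3 + 1) * (q - 1) := by
    have h2 := (Subgroup.centralizer ({z₀} : Set M)).card_mul_index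
    rw [← hK, ← hw, hM, hv, mul_assoc, mul_assoc] at h2
    exact Nat.eq_of_mul_eq_mul_left (by positivity) h2
  have hv0 : 0 < v := Nat.pos_of_ne_zero fun h0 => by
    rw [h0, mul_zero] at hv
    exact Nat.card_pos.ne' (hK ▸ hv)
  have hdvd : q ^ 3 ∣ c * (q - 1) + v := by
    have h1 : q ^ 3 ∣ v * (c * w + 1) := Dvd.dvd.mul_left hfrob v
    rw [mul_add, mul_one, mul_left_comm, hr,
      show c * ((q ^ 3 + 1) * (q - 1)) + v = q ^ 3 * (c * (q - 1)) + (c * (q - 1) + v) by ring] at h1
    exact (Nat.dvd_add_right (dvd_mul_right _ _)).1 h1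
  have h1 : q ^ 3 ≤ c * (q - 1) + v := Nat.le_of_dvd (by omega) hdvd
  have h2 : q ^ 3 ≤ c * w + 1 := Nat.le_of_dvd (by omega) hfrob
  have h3 : c * (q - 1) ≤ 8 * q * q := Nat.mul_le_mul hcle (Nat.sub_le q 1)
  have h4 : c * w ≤ 8 * q * w := Nat.mul_le_mul_right w hcle
  have h5 : q ^ 3 ≤ 8 * q * q + v := by omega
  have h6 : q ^ 3 ≤ 8 * q * w + 1 := by omega
  have h7 : v * w < q ^ 4 := hr ▸ cofactor_lt q
  exact arith_contradiction q v w hq27 h5 h6 h7

end CfsgLib.WalterCons88
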