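import Cfsg.Agent.WalterCons88.Even
import Cfsg.Agent.WalterCons88.Ree
import Cfsg.Agent.Characters.Burnside
import Cfsg.Agent.S0204
import Cfsg.Agent.S0457
import Cfsg.Agent.S4273
import Cfsg.Prelude.Def_Spor_J1
import Cfsg.Prelude.Def_CaseTheorems

/-!
# Simple groups with `AutConj`, from Walter's classification

The classification of simple groups with abelian Sylow 2-subgroups enters as the hypotheses
`AbelianTwoList` (the statement of S0506) and `Walter.SimpleHyp`.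
-/

set_option autoImplicit false
set_option linter.unusedSectionVars false
set_option linter.style.haveILetI false

namespace CfsgLib.WalterCons88

universe u

/-- The statement of S0506. -/
def AbelianTwoList : Prop :=
  ∀ (G : Type u) [Group G] [Finite G], IsSimpleGroup G → ¬ IsMulCommutative G →
    ∀ S : Sylow 2 G, IsMulCommutative (S : Subgroup G) →
      (∃ a : ℕ, 2 ≤ a ∧ ∃ (F : Type) (_ : Field F) (_ : Fintype F), Fintype.card F = 2 ^ a ∧
          Nonempty (G ≃* Matrix.ProjectiveSpecialLinearGroup (Fin 2) F)) ∨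
        (∃ (F : Type) (_ : Field F) (_ : Fintype F), (Fintype.card F % 8 = 3 ∨ Fintype.card F % 8 = 5) ∧
          Nonempty (G ≃* Matrix.ProjectiveSpecialLinearGroup (Fin 2) F)) ∨
        Cfsg.IsRee G ∨ Cfsg.IsJ1 G

variable {M : Type u} [Group M] [Finite M]

theorem isoJ1_of_isJ1 (h : Cfsg.IsJ1 M) : Cfsg.Spor.IsoJ1 M := by
  haveI := h.1
  obtain ⟨x, y, hx, hy, hs⟩ := Cfsg.Agent.S0457.result
  have hxJ : x = Cfsg.Spor.jankoX := Units.ext hx
  have hyJ : y = Cfsg.Spor.jankoY := Units.ext hy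
  subst hxJ hyJ
  haveI : IsSimpleGroup ↥Cfsg.Spor.J1 := hs.1
  exact Cfsg.Agent.S4273.result h.2 hs.2

theorem sl_equiv {F : Type} [Field F] [Fintype F] [CharP F 2]
    (e : M ≃* Matrix.ProjectiveSpecialLinearGroup (Fin 2) F) :
    Nonempty (M ≃* Matrix.SpecialLinearGroup (Fin 2) F) :=
  ⟨e.trans ((QuotientGroup.quotientMulEquivOfEq CfsgLib.CAGroups.sl2_center_eq_bot).trans
    QuotientGroup.quotientBot)⟩

theorem charP_two {F : Type} [Field F] [Fintype F] {a : ℕ} (hF : Fintype.card F = 2 ^ a) :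
    CharP F 2 := by
  haveI : Fact (Nat.Prime 2) := ⟨Nat.prime_two⟩
  have h : (2 : F) = 0 := by
    have h := FiniteField.cast_card_eq_zero F
    rw [hF, Nat.cast_pow] at h
    exact_mod_cast eq_zero_of_pow_eq_zero h
  exact CharTwo.of_one_ne_zero_of_two_eq_zero one_ne_zero h

/-- The possibilities for a simple group with `AutConj`. -/
theorem autConj_cases [IsSimpleGroup M] (h506 : AbelianTwoList.{u})
    (h8 : ∀ m, CfsgLib.Walter.SimpleHyp.{u} m) (hna : ¬ IsMulCommutative M) (h : AutConj M) :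
    (∃ (F : Type) (_ : Field F) (_ : Fintype F), (Fintype.card F = 2 ^ 2 ∨ Fintype.card F = 2 ^ 3 ∨ Fintype.card F = 2 ^ 5) ∧
        Nonempty (M ≃* Matrix.SpecialLinearGroup (Fin 2) F)) ∨
    (∃ (F : Type) (_ : Field F) (_ : Fintype F), 5 ≤ Fintype.card F ∧ (Fintype.card F % 8 = 3 ∨ Fintype.card F % 8 = 5) ∧
        Nonempty (M ≃* Matrix.ProjectiveSpecialLinearGroup (Fin 2) F)) ∨
    Cfsg.Spor.IsoJ1 M := by
  haveI : Fact (Nat.Prime 2) := ⟨Nat.prime_two⟩
  obtain ⟨V, hV⟩ := Cfsg.Agent.S0204.result (G := M) (fun hc => hna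
    ⟨⟨fun a b => by
      obtain ⟨g, hg⟩ := hc.exists_generator
      obtain ⟨i, rfl⟩ := hg a
      obtain ⟨j, rfl⟩ := hg b
      exact (Commute.zpow_zpow (Commute.refl g) i j).eq⟩⟩)
  have hVsq : ∀ e ∈ V, e ^ 2 = 1 := fun e he => by
    have h1 := Monoid.pow_exponent_eq_one (⟨e, he⟩ : V)
    rw [hV.exponent_two] at h1
    exact congrArg Subtype.val h1
  have hVc : IsMulCommutative V :=
    ⟨⟨fun a b => mul_comm_of_exponent_two hV.exponent_two a b⟩⟩
  have hsq : ∀ g : M, (∃ j, orderOf g = 2 ^ j) → g * g = 1 := fun g hg => by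
    rw [← sq]
    exact h.pow_eq_one hVc (by rw [hV.card_four]) hVsq hg
  have hsqS : ∀ (S : Sylow 2 M), ∀ s ∈ (S : Subgroup M), s * s = 1 := fun S s hs => hsq s (by
    obtain ⟨j, hj⟩ := IsPGroup.iff_orderOf.1 S.2 ⟨s, hs⟩
    exact ⟨j, by rwa [Subgroup.orderOf_mk] at hj⟩)
  have hcomm : ∀ (P : Sylow 2 M) (a b : P), a * b = b * a := fun P a b => by
    refine Subtype.ext ?_
    show (a : M) * b = b * a
    calc (a : M) * b = a * (a * b * (a * b)) * b := by
          rw [hsqS P _ (mul_mem a.2 b.2), mul_one]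
      _ = (a : M) * a * (b * a) * (b * b) := by group
      _ = b * a := by rw [hsqS P _ a.2, hsqS P _ b.2, one_mul, mul_one]
  obtain ⟨S⟩ : Nonempty (Sylow 2 M) := inferInstance
  have heven : ∀ (F : Type) [Field F] [Fintype F] (a : ℕ), 2 ≤ a → Fintype.card F = 2 ^ a →
      (M ≃* Matrix.ProjectiveSpecialLinearGroup (Fin 2) F) →
      ∃ (F : Type) (_ : Field F) (_ : Fintype F), (Fintype.card F = 2 ^ 2 ∨ Fintype.card F = 2 ^ 3 ∨ Fintype.card F = 2 ^ 5) ∧
        Nonempty (M ≃* Matrix.SpecialLinearGroup (Fin 2) F) := fun F _ _ a ha hF e => by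
    haveI := charP_two hF
    refine ⟨F, inferInstance, inferInstance, ?_, sl_equiv e⟩
    rcases even_degree_le h hsq ha hF e with rfl | rfl | rfl
    · exact Or.inl hF
    · exact Or.inr (Or.inl hF)
    · exact Or.inr (Or.inr hF)
  by_cases hS8 : Nat.card (S : Subgroup M) = 8
  · rcases h8 (Nat.card M) M inferInstance le_rfl S hS8 (hsqS S) with ⟨F, iF, fF, hF, ⟨e⟩⟩ | hJR
    · exact Or.inl (heven F 3 (by norm_num) (by rw [hF]; norm_num) e)
    · exact Or.inr (Or.inr (isoJ1_of_isJ1 (isJ1_of_isJR h S hS8 hcomm hJR)))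
  rcases h506 M inferInstance hna S ⟨⟨hcomm S⟩⟩ with
    ⟨a, ha, F, iF, fF, hF, ⟨e⟩⟩ | ⟨F, iF, fF, hF, ⟨e⟩⟩ | hR | hJ
  · exact Or.inl (heven F a ha hF e)
  · refine Or.inr (Or.inl ⟨F, iF, fF, ?_, hF, ⟨e⟩⟩)
    by_contra hlt
    have h3 : Fintype.card F = 3 := by omega
    have hc : Nat.card M = 2 ^ 2 * 3 ^ 1 := by
      have := Linear.card_PSL_two_odd (F := F) (Nat.odd_iff.2 (by omega))
      rw [← Nat.card_congr e.toEquiv, h3] at this
      omega
    haveI := CfsgLib.Characters.isSolvable_of_card_eq_primePow_mul (G := M) 2 3 2 1 Nat.prime_two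
      (by norm_num) hc.dvd
    exact hna ⟨⟨IsSimpleGroup.comm_iff_isSolvable.2 inferInstance⟩⟩
  · exfalso
    obtain ⟨-, m, hm, hM⟩ := hR
    apply hS8
    set q := 3 ^ (2 * m + 1) with hq
    have hq8 : q % 8 = 3 := by rw [hq, Nat.pow_succ, pow_mul, Nat.mul_mod, Nat.pow_mod]; norm_num
    obtain ⟨r, hr⟩ : ∃ r, q = 8 * r + 3 := ⟨q / 8, by omega⟩
    have hdvd : ∃ d, Nat.card M = 8 * (2 * d + 1) := by
      have hcube : ∃ e, q ^ 3 = 8 * e + 3 :=
        ⟨64 * r ^ 3 + 72 * r ^ 2 + 27 * r + 3, by rw [hr]; ring⟩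
      obtain ⟨e, he⟩ := hcube
      rw [hM, he, show q - 1 = 2 * (4 * r + 1) by omega,
        show (8 * e + 3) * (8 * e + 3 + 1) * (2 * (4 * r + 1)) =
          8 * ((8 * e + 3) * (2 * e + 1) * (4 * r + 1)) by ring]
      refine ⟨((8 * e + 3) * (2 * e + 1) * (4 * r + 1)) / 2, ?_⟩
      have hodd : Odd ((8 * e + 3) * (2 * e + 1) * (4 * r + 1)) :=
        ((show Odd (8 * e + 3) from ⟨4 * e + 1, by ring⟩).mul ⟨e, rfl⟩).mul ⟨2 * r, by ring⟩
      rw [Nat.two_mul_div_two_add_one_of_odd hodd]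
    obtain ⟨d, hd⟩ := hdvd
    rw [S.card_eq_multiplicity, hd, Nat.factorization_mul (by norm_num) (by omega),
      Finsupp.add_apply, show (8 : ℕ) = 2 ^ 3 by norm_num, Nat.prime_two.factorization_pow,
      Finsupp.single_eq_same, Nat.factorization_eq_zero_of_not_dvd (n := 2 * d + 1) (by omega)]
  · exact Or.inr (Or.inr (isoJ1_of_isJ1 hJ))

/-- The statement of S3914 from Walter's classification. -/
theorem simple_normal_cases (h506 : AbelianTwoList.{u}) (h8 : ∀ m, CfsgLib.Walter.SimpleHyp.{u} m)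
    {G : Type u} [Group G] [Finite G]
    (hB : ∀ A B : Subgroup G, IsMulCommutative ↥A → IsMulCommutative ↥B →
      Nat.card ↥A = Nat.card ↥B → ∃ g : G, B = A.map (MulAut.conj g).toMonoidHom)
    (M : Subgroup G) [M.Normal] (hs : IsSimpleGroup ↥M) (hna : ¬ IsMulCommutative ↥M) :
    (∃ (F : Type) (_ : Field F) (_ : Fintype F), (Fintype.card F = 2 ^ 2 ∨ Fintype.card F = 2 ^ 3 ∨ Fintype.card F = 2 ^ 5) ∧
        Nonempty (↥M ≃* Matrix.SpecialLinearGroup (Fin 2) F)) ∨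
    (∃ (F : Type) (_ : Field F) (_ : Fintype F), 5 ≤ Fintype.card F ∧ (Fintype.card F % 8 = 3 ∨ Fintype.card F % 8 = 5) ∧
        Nonempty (↥M ≃* Matrix.ProjectiveSpecialLinearGroup (Fin 2) F)) ∨
    Cfsg.Spor.IsoJ1 ↥M :=
  autConj_cases h506 h8 hna (autConj_of_conj hB M)

end CfsgLib.WalterCons88
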